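import Mathlib.RingTheory.Length
import Mathlib.RingTheory.FiniteLength
import Mathlib.RingTheory.Nakayama
import Mathlib.RingTheory.Localization.AtPrime.Basic
import Mathlib.RingTheory.Ideal.KrullsHeightTheorem
import Mathlib.RingTheory.DiscreteValuationRing.TFAE
import Groth.Agent.EGA4Lib.Hyperplane
import Groth.Agent.S2111

/-!
Elements with reduced quotient in a radical ideal of a catenary normal local domain.
-/

set_option autoImplicit false
set_option linter.style.haveILetI false
set_option linter.unusedSectionVars false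
universe u
open IsLocalRing

namespace Groth.Agent.RedQuot2013

/-- The intersections of distinct primes missing `x` stay distinct modulo `x`. -/
theorem card_le_coheight {A : Type u} [CommRing A] [IsNoetherianRing A] [IsLocalRing A]
    (x : A) (hx : x ∈ maximalIdeal A) (K : Ideal A) (S : Finset (Ideal A))
    (hp : ∀ P ∈ S, P.IsPrime) (hxP : ∀ P ∈ S, x ∉ P)
    (hinc : ∀ P ∈ S, ∀ P' ∈ S, P ≤ P' → P = P') (f : A) (hf : ∀ P ∈ S, f ∈ P)
    (hK : K ≤ Ideal.span {f} ⊔ Ideal.span {x}) :
    (S.card : ℕ∞) ≤ Order.coheight (Submodule.map (Submodule.mkQ K) (S.inf id ⊔ Ideal.span {x})) := by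
  classical
  induction S using Finset.induction_on with
  | empty => simp
  | insert P S hPS ih =>
    have ih' := ih (fun Q hQ => hp Q (Finset.mem_insert_of_mem hQ))
      (fun Q hQ => hxP Q (Finset.mem_insert_of_mem hQ))
      (fun Q hQ Q' hQ' => hinc Q (Finset.mem_insert_of_mem hQ) Q' (Finset.mem_insert_of_mem hQ'))
      (fun Q hQ => hf Q (Finset.mem_insert_of_mem hQ))
    rw [Finset.card_insert_of_notMem hPS, Finset.inf_insert, id_eq, Nat.cast_succ]
    refine le_trans (add_le_add_left ih' 1) (Order.coheight_add_one_le ?_)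
    refine lt_of_le_of_ne (Submodule.map_mono (sup_le_sup_right inf_le_right _)) fun heq => ?_
    have h1 : S.inf id ⊔ Ideal.span {x} ⊔ K ≤ (P ⊓ S.inf id) ⊔ Ideal.span {x} ⊔ K := by
      have := congrArg (Submodule.comap (Submodule.mkQ K)) heq
      rw [Submodule.comap_map_eq, Submodule.comap_map_eq, Submodule.ker_mkQ] at this
      exact this.ge
    have hI : ∀ c, x * c ∈ S.inf id → c ∈ S.inf id := by
      intro c hc
      rw [Submodule.mem_finsetInf] at hc ⊢
      exact fun Q hQ => ((hp Q (Finset.mem_insert_of_mem hQ)).mem_or_mem (hc Q hQ)).resolve_left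
        (hxP Q (Finset.mem_insert_of_mem hQ))
    have hKle : K ≤ (P ⊓ S.inf id) ⊔ Ideal.span {x} → S.inf id ≤ P := by
      intro hK'
      have h2 : S.inf id ≤ (P ⊓ S.inf id) ⊔ maximalIdeal A • S.inf id := by
        intro a ha
        have ha' : a ∈ (P ⊓ S.inf id) ⊔ Ideal.span {x} := by
          have := h1 (Ideal.mem_sup_left (Ideal.mem_sup_left ha))
          exact sup_le le_rfl hK' this
        obtain ⟨b, hb, e, he, rfl⟩ := Submodule.mem_sup.1 ha'
        obtain ⟨c, rfl⟩ := Ideal.mem_span_singleton.1 he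
        have hc : c ∈ S.inf id := hI c (by simpa using Submodule.sub_mem _ ha hb.2)
        exact Submodule.mem_sup.2 ⟨b, hb, x * c, Submodule.smul_mem_smul hx hc, rfl⟩
      exact (Submodule.le_of_le_smul_of_le_jacobson_bot (IsNoetherian.noetherian _)
        (maximalIdeal_le_jacobson _) h2).trans inf_le_left
    have hfi : f ∈ P ⊓ S.inf id := ⟨hf P (Finset.mem_insert_self _ _),
      Submodule.mem_finsetInf.2 fun Q hQ => hf Q (Finset.mem_insert_of_mem hQ)⟩
    obtain ⟨Q, hQ, hQP⟩ := ((hp P (Finset.mem_insert_self _ _)).inf_le').1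
      (hKle (hK.trans (sup_le_sup_right ((Ideal.span_singleton_le_iff_mem _).2 hfi) _)))
    exact hPS (hinc Q (Finset.mem_insert_of_mem hQ) P (Finset.mem_insert_self _ _) hQP ▸ hQ)

/-- The number of height one primes through `f` is bounded modulo `x`. -/
theorem card_le_length {A : Type u} [CommRing A] [IsNoetherianRing A] [IsLocalRing A]
    (x : A) (hx : x ∈ maximalIdeal A) (K : Ideal A) (S : Finset (Ideal A))
    (hp : ∀ P ∈ S, P.IsPrime) (hxP : ∀ P ∈ S, x ∉ P)
    (hinc : ∀ P ∈ S, ∀ P' ∈ S, P ≤ P' → P = P') (f : A) (hf : ∀ P ∈ S, f ∈ P)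
    (hK : K ≤ Ideal.span {f} ⊔ Ideal.span {x}) :
    (S.card : ℕ∞) ≤ Module.length A (A ⧸ K) := by
  have h := card_le_coheight x hx K S hp hxP hinc f hf hK
  rw [← WithBot.coe_le_coe, Module.coe_length]
  exact le_trans (WithBot.coe_le_coe.2 h) (Order.coheight_le_krullDim _)

variable {R : Type u} [CommRing R] [IsDomain R] [IsNoetherianRing R]

/-- The height one primes through a nonzero element. -/
theorem height_eq_one_of_mem_minimalPrimes {f : R} (hf : f ≠ 0) {p : Ideal R}
    (hp : p ∈ (Ideal.span {f}).minimalPrimes) : p.height = 1 := by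
  haveI := hp.1.1
  refine le_antisymm (Ideal.height_le_one_of_isPrincipal_of_mem_minimalPrimes _ _ hp) ?_
  rw [Order.one_le_iff_ne_zero, Ne, Ideal.height_eq_zero_iff,
    IsDomain.minimalPrimes_eq_singleton_bot]
  intro h
  exact hf (Ideal.mem_bot.1 ((Set.mem_singleton_iff.1 h).le (hp.1.2 (Ideal.mem_span_singleton_self f))))

theorem mem_minimalPrimes_of_height_eq_one {f : R} (hf : f ≠ 0) {p : Ideal R} [p.IsPrime]
    (hfp : f ∈ p) (hp : p.height = 1) : p ∈ (Ideal.span {f}).minimalPrimes := by
  obtain ⟨q, hq, hqp⟩ := Ideal.exists_minimalPrimes_le ((Ideal.span_singleton_le_iff_mem _).2 hfp)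
  rcases eq_or_lt_of_le hqp with rfl | hlt
  · exact hq
  · haveI := hq.1.1
    have := Ideal.height_strict_mono_of_isPrime hlt
    rw [height_eq_one_of_mem_minimalPrimes hf hq, hp] at this
    exact absurd this (lt_irrefl _)

theorem eq_of_le_height_one {f f' : R} (hf : f ≠ 0) (hf' : f' ≠ 0) {p q : Ideal R}
    (hp : p ∈ (Ideal.span {f}).minimalPrimes) (hq : q ∈ (Ideal.span {f'}).minimalPrimes)
    (h : p ≤ q) : p = q := by
  haveI := hp.1.1
  haveI := hq.1.1
  rcases eq_or_lt_of_le h with rfl | hlt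
  · rfl
  · have := Ideal.height_strict_mono_of_isPrime hlt
    rw [height_eq_one_of_mem_minimalPrimes hf hp, height_eq_one_of_mem_minimalPrimes hf' hq] at this
    exact absurd this (lt_irrefl _)

variable [IsIntegrallyClosed R]

theorem isDVR_localization {p : Ideal R} [p.IsPrime] (hp : p.height = 1) :
    IsDiscreteValuationRing (Localization.AtPrime p) := by
  haveI : IsIntegrallyClosed (Localization.AtPrime p) :=
    isIntegrallyClosed_of_isLocalization _ p.primeCompl p.primeCompl_le_nonZeroDivisors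
  have hd : ringKrullDim (Localization.AtPrime p) = 1 := by
    rw [IsLocalization.AtPrime.ringKrullDim_eq_height p, hp]; rfl
  have hnf : ¬ IsField (Localization.AtPrime p) := fun h => by
    rw [ringKrullDim_eq_zero_of_isField h] at hd
    exact zero_ne_one hd
  have key : IsDiscreteValuationRing (Localization.AtPrime p) ↔ IsIntegrallyClosed (Localization.AtPrime p) ∧
      ∃! P : Ideal (Localization.AtPrime p), P ≠ ⊥ ∧ P.IsPrime := (IsDiscreteValuationRing.TFAE _ hnf).out 0 3
  refine key.2 ⟨inferInstance, maximalIdeal (Localization.AtPrime p), ⟨?_, inferInstance⟩, fun P hP => ?_⟩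
  · intro h
    exact hnf (IsLocalRing.isField_iff_maximalIdeal_eq.2 h)
  · by_contra hne
    have hlt : P < maximalIdeal (Localization.AtPrime p) :=
      lt_of_le_of_ne (le_maximalIdeal hP.2.ne_top) hne
    haveI := hP.2
    have h2 := Ideal.height_strict_mono_of_isPrime hlt
    have h3 : ((maximalIdeal (Localization.AtPrime p)).height : WithBot ℕ∞) = 1 := by
      rw [IsLocalRing.maximalIdeal_height_eq_ringKrullDim, hd]
    rw [show (maximalIdeal (Localization.AtPrime p)).height = 1 from WithBot.coe_inj.1 h3,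
      Order.lt_one_iff, Ideal.height_eq_zero_iff, IsDomain.minimalPrimes_eq_singleton_bot] at h2
    exact hP.1 h2

/-- Divisibility can be checked at height one primes. -/
theorem dvd_of_forall {f g : R} (hf : f ≠ 0)
    (h : ∀ (p : Ideal R) [p.IsPrime], p.height = 1 →
      algebraMap R (Localization.AtPrime p) f ∣ algebraMap R (Localization.AtPrime p) g) : f ∣ g := by
  have hf' : algebraMap R (FractionRing R) f ≠ 0 :=
    (map_ne_zero_iff _ (IsFractionRing.injective R _)).2 hf
  obtain ⟨c, hc⟩ := S2111.result (algebraMap R (FractionRing R) g / algebraMap R (FractionRing R) f)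
    fun p hp h1 => by
      obtain ⟨z, hz⟩ := h p h1
      refine ⟨z, ?_⟩
      rw [eq_div_iff hf', IsScalarTower.algebraMap_apply R (Localization.AtPrime p) (FractionRing R) g,
        hz, map_mul, ← IsScalarTower.algebraMap_apply, mul_comm]
  refine ⟨c, IsFractionRing.injective R (FractionRing R) ?_⟩
  rw [map_mul, hc, mul_div_cancel₀ _ hf']

theorem isReduced_of_forall {f : R} (hf : f ≠ 0)
    (h : ∀ (p : Ideal R) [p.IsPrime], p.height = 1 → f ∈ p →
      maximalIdeal (Localization.AtPrime p) ≤ Ideal.span {algebraMap R (Localization.AtPrime p) f}) :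
    IsReduced (R ⧸ Ideal.span {f}) := by
  rw [← Ideal.isRadical_iff_quotient_reduced]
  intro g hg
  obtain ⟨n, hn⟩ := hg
  rw [Ideal.mem_span_singleton] at hn ⊢
  refine dvd_of_forall hf fun p hp h1 => ?_
  by_cases hfp : f ∈ p
  · have hgp : g ∈ p := hp.mem_of_pow_mem n (p.mem_of_dvd hn hfp)
    rw [← Ideal.mem_span_singleton]
    exact h p h1 hfp ((IsLocalization.AtPrime.to_map_mem_maximal_iff _ p g).2 hgp)
  · exact (IsLocalization.map_units (Localization.AtPrime p) (⟨f, hfp⟩ : p.primeCompl)).dvd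

variable [IsLocalRing R]

/-- Each component of `f` meets `x` in a minimal prime of `(f, x)`. -/
theorem exists_minimalPrime (hc : CAlg.IsCatenary R) {f x : R} (hf : f ≠ 0) (hx : x ∈ maximalIdeal R)
    (h2 : ∀ r : Ideal R, r.IsPrime → f ∈ r → x ∈ r → 1 < r.height)
    {p : Ideal R} (hp : p ∈ (Ideal.span {f}).minimalPrimes) :
    ∃ q ∈ (Ideal.span {f} ⊔ Ideal.span {x}).minimalPrimes, p ≤ q := by
  haveI := hp.1.1
  have h1 := height_eq_one_of_mem_minimalPrimes hf hp
  have hfp : f ∈ p := hp.1.2 (Ideal.mem_span_singleton_self f)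
  have hxp : x ∉ p := fun h => (h2 p inferInstance hfp h).ne h1.symm
  obtain ⟨q, hq, hxq, hpq, hmin⟩ := EGA4Lib.exists_prime_succ hx p hxp
  haveI := hq
  have heq : EGA4.IsEquidim R := fun P hP => by
    rw [IsDomain.minimalPrimes_eq_singleton_bot] at hP
    rw [show P = ⊥ from hP]
    exact ringKrullDim_eq_of_ringEquiv (RingEquiv.quotientBot R)
  have hcov : (⟨p, inferInstance⟩ : PrimeSpectrum R) ⋖ ⟨q, hq⟩ := ⟨hpq, fun r hr hr' => hr'.ne
    (PrimeSpectrum.ext (EGA4Lib.covBy_of_minimal hpq hxp hxq hmin r.asIdeal r.isPrime hr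
      (le_of_lt hr'))) ⟩
  have hq2 : q.height = 1 + 1 := by
    rw [EGA4Lib.height_succ_of_covBy hc heq _ _ hcov, h1]
  have hle : Ideal.span {f} ⊔ Ideal.span {x} ≤ q :=
    sup_le ((Ideal.span_singleton_le_iff_mem _).2 (hpq.le hfp)) ((Ideal.span_singleton_le_iff_mem _).2 hxq)
  obtain ⟨q', hq', hq'q⟩ := Ideal.exists_minimalPrimes_le hle
  refine ⟨q, ?_, hpq.le⟩
  rcases eq_or_lt_of_le hq'q with rfl | hlt
  · exact hq'
  · haveI := hq'.1.1
    have hgt := h2 q' inferInstance (hq'.1.2 (Ideal.mem_sup_left (Ideal.mem_span_singleton_self f)))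
      (hq'.1.2 (Ideal.mem_sup_right (Ideal.mem_span_singleton_self x)))
    have hlt2 := Ideal.height_strict_mono_of_isPrime hlt
    rw [hq2] at hlt2
    exact absurd (Order.le_of_lt_add_one hlt2) hgt.not_ge

open Classical in
/-- The number of components is bounded in terms of `(f, x)`. -/
theorem ncard_le (hc : CAlg.IsCatenary R) {x : R} (hx : x ∈ maximalIdeal R) (K : Ideal R)
    (h2 : ∀ r : Ideal R, r.IsPrime → K ≤ r → 1 < r.height) :
    ∃ N : ℕ, ∀ f : R, f ≠ 0 → Ideal.span {f} ⊔ Ideal.span {x} = K →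
      (Ideal.span {f}).minimalPrimes.ncard ≤ N := by
  have hQ := K.finite_minimalPrimes_of_isNoetherianRing
  let M : Ideal R → ℕ := fun q => if h : q.IsPrime then
    (Module.length (Localization.AtPrime q) (Localization.AtPrime q ⧸ K.map (algebraMap R (Localization.AtPrime q)))).toNat else 0
  refine ⟨∑ q ∈ hQ.toFinset, M q, fun f hf hfK => ?_⟩
  have hfin := (Ideal.span {f}).finite_minimalPrimes_of_isNoetherianRing
  rw [Set.ncard_eq_toFinset_card _ hfin]
  have h2' : ∀ r : Ideal R, r.IsPrime → f ∈ r → x ∈ r → 1 < r.height := fun r hr h1 h1' =>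
    h2 r hr (hfK ▸ sup_le ((Ideal.span_singleton_le_iff_mem _).2 h1) ((Ideal.span_singleton_le_iff_mem _).2 h1'))
  have hcov : hfin.toFinset ⊆ hQ.toFinset.biUnion fun q => hfin.toFinset.filter (· ≤ q) := by
    intro p hp
    obtain ⟨q, hq, hpq⟩ := exists_minimalPrime hc hf hx h2' (hfin.mem_toFinset.1 hp)
    exact Finset.mem_biUnion.2 ⟨q, hQ.mem_toFinset.2 (hfK ▸ hq), Finset.mem_filter.2 ⟨hp, hpq⟩⟩
  refine (Finset.card_le_card hcov).trans (Finset.card_biUnion_le.trans (Finset.sum_le_sum fun q hq => ?_))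
  rw [hQ.mem_toFinset] at hq
  haveI := hq.1.1
  simp only [M, dif_pos hq.1.1]
  set A := Localization.AtPrime q
  haveI : IsArtinianRing (A ⧸ K.map (algebraMap R A)) := by
    apply IsLocalRing.quotient_artinian_of_mem_minimalPrimes_of_isLocalRing
    rw [IsLocalization.minimalPrimes_map q.primeCompl A K, Set.mem_preimage,
      Localization.AtPrime.under_maximalIdeal]
    exact hq
  haveI : IsArtinian A (A ⧸ K.map (algebraMap R A)) :=
    isArtinian_of_surjective_algebraMap (Ideal.Quotient.mk_surjective (I := K.map (algebraMap R A)))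
  have hlen : Module.length A (A ⧸ K.map (algebraMap R A)) ≠ ⊤ := Module.length_ne_top
  rw [← ENat.natCast_le_natCast, ENat.natCast_toNat hlen]
  set S := hfin.toFinset.filter (· ≤ q)
  have hS : ∀ p ∈ S, p ∈ (Ideal.span {f}).minimalPrimes ∧ p ≤ q := fun p hp =>
    ⟨hfin.mem_toFinset.1 (Finset.mem_filter.1 hp).1, (Finset.mem_filter.1 hp).2⟩
  have hcm : ∀ p ∈ S, (p.map (algebraMap R A)).comap (algebraMap R A) = p := fun p hp => by
    haveI := (hS p hp).1.1.1
    exact IsLocalization.comap_map_of_isPrime_disjoint q.primeCompl A inferInstance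
      (Set.disjoint_left.2 fun a ha ha' => ha ((hS p hp).2 ha'))
  have hcard : (S.image fun p => p.map (algebraMap R A)).card = S.card :=
    Finset.card_image_of_injOn fun p hp p' hp' h => by
      rw [← hcm p hp, ← hcm p' hp']; exact congrArg (Ideal.comap (algebraMap R A)) h
  rw [← hcard]
  refine card_le_length (algebraMap R A x) ?_ _ _ ?_ ?_ ?_ (algebraMap R A f) ?_ ?_
  · exact (IsLocalization.AtPrime.to_map_mem_maximal_iff A q x).2
      (hq.1.2 (hfK ▸ Ideal.mem_sup_right (Ideal.mem_span_singleton_self x)))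
  · intro P hP
    obtain ⟨p, hp, rfl⟩ := Finset.mem_image.1 hP
    haveI := (hS p hp).1.1.1
    exact IsLocalization.isPrime_of_isPrime_disjoint q.primeCompl A p inferInstance
      (Set.disjoint_left.2 fun a ha ha' => ha ((hS p hp).2 ha'))
  · intro P hP hxP
    obtain ⟨p, hp, rfl⟩ := Finset.mem_image.1 hP
    have hxp : x ∈ p := by rw [← hcm p hp]; exact hxP
    exact (h2' p (hS p hp).1.1.1 ((hS p hp).1.1.2 (Ideal.mem_span_singleton_self f)) hxp).ne
      (height_eq_one_of_mem_minimalPrimes hf (hS p hp).1).symm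
  · intro P hP P' hP' hle
    obtain ⟨p, hp, rfl⟩ := Finset.mem_image.1 hP
    obtain ⟨p', hp', rfl⟩ := Finset.mem_image.1 hP'
    rw [eq_of_le_height_one hf hf (hS p hp).1 (hS p' hp').1]
    rw [← hcm p hp, ← hcm p' hp']
    exact Ideal.comap_mono hle
  · intro P hP
    obtain ⟨p, hp, rfl⟩ := Finset.mem_image.1 hP
    exact Ideal.mem_map_of_mem _ ((hS p hp).1.1.2 (Ideal.mem_span_singleton_self f))
  · rw [← hfK, Ideal.map_sup, Ideal.map_span, Ideal.map_span, Set.image_singleton, Set.image_singleton]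

/-- If `f` vanishes doubly along some component, a perturbation has more components. -/
theorem exists_more {J : Ideal R} (hJ : J.IsRadical) {f x : R} (hfJ : f ∈ J) (hf : f ≠ 0)
    (hx : x ∈ maximalIdeal R) (h2 : ∀ r : Ideal R, r.IsPrime → f ∈ r → x ∈ r → 1 < r.height)
    (p : Ideal R) [p.IsPrime] (hp1 : p.height = 1) (hfp : f ∈ p)
    (hbad : ¬ maximalIdeal (Localization.AtPrime p) ≤ Ideal.span {algebraMap R (Localization.AtPrime p) f}) :
    ∃ f' ∈ J, f' ≠ 0 ∧ Ideal.span {f'} ⊔ Ideal.span {x} = Ideal.span {f} ⊔ Ideal.span {x} ∧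
      (Ideal.span {f}).minimalPrimes ⊂ (Ideal.span {f'}).minimalPrimes := by
  classical
  set A := Localization.AtPrime p
  let a := algebraMap R A
  haveI := isDVR_localization hp1
  obtain ⟨π, hπ⟩ := IsDiscreteValuationRing.exists_irreducible A
  have hπm : maximalIdeal A = Ideal.span {π} := hπ.maximalIdeal_eq
  have hainj : Function.Injective a := IsLocalization.injective A p.primeCompl_le_nonZeroDivisors
  have hxp : x ∉ p := fun h => (h2 p inferInstance hfp h).ne hp1.symm
  obtain ⟨f₁, hf₁⟩ : π ∣ a f := by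
    rw [← Ideal.mem_span_singleton, ← hπm]
    exact (IsLocalization.AtPrime.to_map_mem_maximal_iff A p f).2 hfp
  have hf₁m : f₁ ∈ maximalIdeal A := by
    by_contra h
    apply hbad
    rw [hπm, Ideal.span_singleton_le_iff_mem, Ideal.mem_span_singleton]
    rw [show algebraMap R A f = π * f₁ from hf₁]
    exact (notMem_maximalIdeal.1 h).mul_right_dvd.2 dvd_rfl
  -- an element of `J ⊓ p` of order one at `p`
  obtain ⟨y, hyJ, u, hu, hyu⟩ : ∃ y ∈ J ⊓ p, ∃ u : A, IsUnit u ∧ a y = π * u := by
    by_contra hcon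
    push Not at hcon
    have hmap : (J ⊓ p).map a ≤ Ideal.span {π * π} := Ideal.map_le_iff_le_comap.2 fun y hy => by
      obtain ⟨u, hu⟩ : π ∣ a y := by
        rw [← Ideal.mem_span_singleton, ← hπm]
        exact (IsLocalization.AtPrime.to_map_mem_maximal_iff A p y).2 hy.2
      have hum : u ∈ maximalIdeal A := by
        by_contra h
        exact hcon y hy u (notMem_maximalIdeal.1 h) hu
      rw [hπm, Ideal.mem_span_singleton] at hum
      rw [Ideal.mem_comap, Ideal.mem_span_singleton, hu]
      exact mul_dvd_mul_left π hum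
    have hrad : ((J ⊓ p).map a).IsRadical := by
      have hJp : (J ⊓ p).radical = J ⊓ p := by
        rw [Ideal.radical_inf, hJ.radical, (Ideal.IsPrime.isRadical ‹p.IsPrime›).radical]
      rw [← hJp]
      change ((J ⊓ p).radical.map (algebraMap R A)).IsRadical
      rw [IsLocalization.map_radical p.primeCompl]
      exact Ideal.radical_isRadical _
    have hne : ((J ⊓ p).map a) ≠ ⊥ := fun h => hf (hainj (by
      rw [map_zero, ← Ideal.mem_bot, ← h]; exact Ideal.mem_map_of_mem a ⟨hfJ, hfp⟩))
    obtain ⟨n, hn⟩ := IsDiscreteValuationRing.ideal_eq_span_pow_irreducible hne hπ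
    have hπmem : π ∈ (J ⊓ p).map a := hrad ⟨n, hn ▸ Ideal.mem_span_singleton_self _⟩
    obtain ⟨c, hc⟩ := Ideal.mem_span_singleton.1 (hmap hπmem)
    exact hπ.not_isUnit (IsUnit.of_mul_eq_one c (mul_left_cancel₀ hπ.ne_zero (by linear_combination -hc)))
  -- high order at the other components
  have hz : ∀ P : Ideal R, ∃ z ∉ p, P ∈ (Ideal.span {f}).minimalPrimes → P ≠ p → ∀ [P.IsPrime],
      algebraMap R (Localization.AtPrime P) z ∈
        Ideal.span {algebraMap R (Localization.AtPrime P) f} * maximalIdeal (Localization.AtPrime P) := by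
    intro P
    by_cases hP : P ∈ (Ideal.span {f}).minimalPrimes ∧ P ≠ p
    · haveI := hP.1.1.1
      haveI := isDVR_localization (height_eq_one_of_mem_minimalPrimes hf hP.1)
      obtain ⟨ϖ, hϖ⟩ := IsDiscreteValuationRing.exists_irreducible (Localization.AtPrime P)
      have hne : Ideal.span {algebraMap R (Localization.AtPrime P) f} * maximalIdeal (Localization.AtPrime P) ≠ ⊥ := by
        rw [hϖ.maximalIdeal_eq, Ideal.span_singleton_mul_span_singleton, Ne, Ideal.span_singleton_eq_bot,
          mul_eq_zero, not_or]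
        exact ⟨(map_ne_zero_iff _ (IsLocalization.injective _ P.primeCompl_le_nonZeroDivisors)).2 hf, hϖ.ne_zero⟩
      obtain ⟨n, hn⟩ := IsDiscreteValuationRing.ideal_eq_span_pow_irreducible hne hϖ
      obtain ⟨w, hwP, hwp⟩ : ∃ w ∈ P, w ∉ p := by
        by_contra h
        push Not at h
        exact hP.2 (eq_of_le_height_one hf hf hP.1 (mem_minimalPrimes_of_height_eq_one hf hfp hp1) h)
      refine ⟨w ^ n, fun h => hwp (Ideal.IsPrime.mem_of_pow_mem ‹p.IsPrime› n h), fun _ _ _ => ?_⟩
      rw [hn, ← Ideal.span_singleton_pow, ← hϖ.maximalIdeal_eq, map_pow]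
      exact Ideal.pow_mem_pow ((IsLocalization.AtPrime.to_map_mem_maximal_iff _ P w).2 hwP) n
    · exact ⟨1, fun h => Ideal.IsPrime.ne_top ‹p.IsPrime› ((Ideal.eq_top_iff_one _).2 h),
        fun h1 h2 => absurd ⟨h1, h2⟩ hP⟩
  choose z hzp hzP using hz
  have hfin := (Ideal.span {f}).finite_minimalPrimes_of_isNoetherianRing
  let Z := ∏ P ∈ hfin.toFinset, z P
  have hZp : Z ∉ p := fun h => by
    obtain ⟨P, -, hP⟩ := Ideal.IsPrime.prod_mem_iff.1 h
    exact hzp P hP
  let f' := f + x * (y * Z)
  have hgen : ∃ v : A, IsUnit v ∧ a f' = π * v := by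
    refine ⟨f₁ + a x * u * a Z, ?_, ?_⟩
    · apply notMem_maximalIdeal.1
      intro h
      have := sub_mem h hf₁m
      rw [add_sub_cancel_left] at this
      exact notMem_maximalIdeal.2 ((((IsLocalization.map_units A (⟨x, hxp⟩ : p.primeCompl))).mul hu).mul
        (IsLocalization.map_units A (⟨Z, hZp⟩ : p.primeCompl))) this
    · simp only [f', map_add, map_mul, hf₁, hyu]; ring
  obtain ⟨v, hv, hfv⟩ := hgen
  have hf' : f' ≠ 0 := fun h => hπ.ne_zero (by
    rw [h, map_zero, eq_comm, hv.mul_left_eq_zero] at hfv; exact hfv)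
  have hfp' : f' ∈ p := by
    rw [← IsLocalization.AtPrime.to_map_mem_maximal_iff A p, hπm]
    exact Ideal.mem_span_singleton.2 ⟨v, hfv⟩
  -- at every component of `f`
  have hold : ∀ P ∈ (Ideal.span {f}).minimalPrimes, ∀ [P.IsPrime], f' ∈ P ∧
      algebraMap R (Localization.AtPrime P) f' ∣ algebraMap R (Localization.AtPrime P) f := by
    intro P hP _
    by_cases hPp : P = p
    · subst hPp
      refine ⟨hfp', ?_⟩
      show a f' ∣ a f
      rw [hfv, hf₁]
      exact mul_dvd_mul_left π hv.dvd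
    · have hmem := hzP P hP hPp
      rw [Ideal.mem_span_singleton_mul] at hmem
      obtain ⟨w, hw, hwz⟩ := hmem
      obtain ⟨c, hc⟩ : z P ∣ Z := Finset.dvd_prod_of_mem _ (hfin.mem_toFinset.2 hP)
      set b := algebraMap R (Localization.AtPrime P)
      have he : b f' = b f * (1 + b (x * y * c) * w) := by
        simp only [f', hc, map_add, map_mul, ← hwz]; ring
      refine ⟨?_, ?_⟩
      · rw [← IsLocalization.AtPrime.to_map_mem_maximal_iff (Localization.AtPrime P) P]
        show b f' ∈ _
        rw [he]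
        exact Ideal.mul_mem_right _ _ ((IsLocalization.AtPrime.to_map_mem_maximal_iff _ P f).2
          (hP.1.2 (Ideal.mem_span_singleton_self f)))
      · rw [he]
        refine (IsUnit.mul_right_dvd ?_).2 dvd_rfl
        apply notMem_maximalIdeal.1
        intro h
        have := sub_mem h (Ideal.mul_mem_left _ (b (x * y * c)) hw)
        rw [add_sub_cancel_right] at this
        exact notMem_maximalIdeal.2 isUnit_one this
  refine ⟨f', J.add_mem hfJ (J.mul_mem_left _ (J.mul_mem_right _ hyJ.1)), hf', ?_, ?_⟩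
  · apply le_antisymm <;> refine sup_le ((Ideal.span_singleton_le_iff_mem _).2 ?_) le_sup_right
    · exact Submodule.mem_sup.2 ⟨f, Ideal.mem_span_singleton_self f, x * (y * Z),
        Ideal.mem_span_singleton.2 ⟨_, rfl⟩, rfl⟩
    · exact Submodule.mem_sup.2 ⟨f', Ideal.mem_span_singleton_self f', -(x * (y * Z)),
        Ideal.mem_span_singleton.2 ⟨-(y * Z), by ring⟩, by simp [f']⟩
  refine Set.ssubset_iff_subset_ne.2 ⟨fun P hP => ?_, fun heq => ?_⟩
  · haveI := hP.1.1
    exact mem_minimalPrimes_of_height_eq_one hf' (hold P hP).1 (height_eq_one_of_mem_minimalPrimes hf hP)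
  obtain ⟨g, hg⟩ : f' ∣ f := dvd_of_forall hf' fun P hP h1 => by
    by_cases hfP : f' ∈ P
    · exact (hold P (heq ▸ mem_minimalPrimes_of_height_eq_one hf' hfP h1)).2
    · exact (IsLocalization.map_units (Localization.AtPrime P) (⟨f', hfP⟩ : P.primeCompl)).dvd
  have hgm : g ∈ maximalIdeal R := by
    by_contra h
    apply hbad
    rw [hπm, Ideal.span_singleton_le_iff_mem, Ideal.mem_span_singleton]
    show a f ∣ π
    rw [hg, map_mul, hfv, mul_assoc]
    exact (IsUnit.mul_right_dvd (hv.mul ((notMem_maximalIdeal.1 h).map a))).2 dvd_rfl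
  have h1g : IsUnit (1 - g) := by
    apply notMem_maximalIdeal.1
    intro h
    have := add_mem h hgm
    rw [sub_add_cancel] at this
    exact notMem_maximalIdeal.2 isUnit_one this
  have hxf : x ∣ f := by
    rw [hg]
    refine Dvd.dvd.mul_right ?_ g
    rw [← h1g.dvd_mul_right]
    exact ⟨y * Z, by simp only [f'] at hg ⊢; linear_combination hg⟩
  obtain ⟨r, hr, -⟩ := Ideal.exists_minimalPrimes_le ((Ideal.span_singleton_le_iff_mem _).2 hx)
  haveI := hr.1.1
  exact (h2 r inferInstance (r.mem_of_dvd hxf (hr.1.2 (Ideal.mem_span_singleton_self x)))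
    (hr.1.2 (Ideal.mem_span_singleton_self x))).not_ge
      (Ideal.height_le_one_of_isPrincipal_of_mem_minimalPrimes _ _ hr)

end Groth.Agent.RedQuot2013
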